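import Mathlib
import Groth.Prelude.Def_Found
import Groth.Agent.Lib.ArtinTate.Ring

/-!
Normal curves through a maximal ideal of a Nagata ring: the commutative algebra.
-/

set_option autoImplicit false

universe u

namespace GrothLib.NagataCurve

/-- A constructible set is, near each of its points, open in the closure of that point. -/
theorem exists_open_closure_iff {X : Type*} [TopologicalSpace X] {s : Set X}
    (hs : Topology.IsConstructible s) (z : X) :
    ∃ O : Set X, IsOpen O ∧ z ∈ O ∧ ∀ w ∈ O, w ∈ closure ({z} : Set X) → (w ∈ s ↔ z ∈ s) := by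
  induction hs using Topology.IsConstructible.empty_union_induction generalizing z with
  | open_retrocompact U hU _ =>
    by_cases hz : z ∈ U
    · exact ⟨U, hU, hz, fun w hw _ => iff_of_true hw hz⟩
    · refine ⟨Set.univ, isOpen_univ, trivial, fun w _ hw => iff_of_false (fun hwU => hz ?_) hz⟩
      exact (specializes_iff_mem_closure.2 hw).mem_open hU hwU
  | union s _ t _ hs' ht' =>
    obtain ⟨O₁, h₁, hz₁, e₁⟩ := hs' z
    obtain ⟨O₂, h₂, hz₂, e₂⟩ := ht' z
    exact ⟨O₁ ∩ O₂, h₁.inter h₂, ⟨hz₁, hz₂⟩, fun w hw hc =>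
      or_congr (e₁ w hw.1 hc) (e₂ w hw.2 hc)⟩
  | compl s _ hs' =>
    obtain ⟨O₁, h₁, hz₁, e₁⟩ := hs' z
    exact ⟨O₁, h₁, hz₁, fun w hw hc => not_congr (e₁ w hw hc)⟩

/-- A prime which is maximal under `m` among those avoiding `g` has nothing between it and `m`. -/
theorem exists_prime_below {A : Type u} [CommRing A] [IsNoetherianRing A] {p₀ m : Ideal A}
    [p₀.IsPrime] [m.IsPrime] (hle : p₀ ≤ m) {g : A} (hgm : g ∈ m) (hg : g ∉ p₀) :
    ∃ p : Ideal A, p.IsPrime ∧ p₀ ≤ p ∧ p < m ∧ g ∉ p ∧
      ∀ q : Ideal A, q.IsPrime → p ≤ q → q ≤ m → q = p ∨ q = m := by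
  obtain ⟨p, ⟨hp, hp₀, hpm, hgp⟩, hmax⟩ := set_has_maximal_iff_noetherian.2 (inferInstance : IsNoetherian A A)
    {q : Ideal A | q.IsPrime ∧ p₀ ≤ q ∧ q ≤ m ∧ g ∉ q} ⟨p₀, ‹_›, le_rfl, hle, hg⟩
  have hlt : p < m := lt_of_le_of_ne hpm fun e => hgp (e ▸ hgm)
  refine ⟨p, hp, hp₀, hlt, hgp, fun q hq hpq hqm => ?_⟩
  by_cases hqp : q = p
  · exact Or.inl hqp
  right
  let π := Ideal.Quotient.mk p
  have hπ : Function.Surjective π := Ideal.Quotient.mk_surjective
  have hker : RingHom.ker π = p := Ideal.mk_ker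
  have : (m.map π).IsPrime := Ideal.map_isPrime_of_surjective hπ (hker.trans_le hpm)
  have : (q.map π).IsPrime := Ideal.map_isPrime_of_surjective hπ (hker.trans_le hpq)
  let R' := Localization.AtPrime (m.map π)
  have hcomap : ∀ I : Ideal A, p ≤ I → (I.map π).comap π = I := fun I hI => by
    rw [Ideal.comap_map_of_surjective _ hπ, ← RingHom.ker_eq_comap_bot, hker, sup_eq_left.2 hI]
  have hinj : Function.Injective (algebraMap (A ⧸ p) R') :=
    IsLocalization.injective R' (m.map π).primeCompl_le_nonZeroDivisors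
  have hg' : algebraMap (A ⧸ p) R' (π g) ≠ 0 := fun e =>
    hgp (Ideal.Quotient.eq_zero_iff_mem.1 (hinj (e.trans (map_zero _).symm)))
  have hF : IsField (Localization.Away (algebraMap (A ⧸ p) R' (π g))) := by
    refine (GrothLib.ArtinTate.isField_away_iff hg').2 fun P hP hne => ?_
    by_contra hgP
    have hPm : P.comap (algebraMap (A ⧸ p) R') ≤ m.map π := by
      exact (Ideal.comap_mono (IsLocalRing.le_maximalIdeal hP.ne_top)).trans
        (IsLocalization.AtPrime.comap_maximalIdeal R' (m.map π)).le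
    have hPne : P.comap (algebraMap (A ⧸ p) R') ≠ ⊥ := fun e => hne <| by
      rw [← IsLocalization.map_under (m.map π).primeCompl R' P, Ideal.under_def, e, Ideal.map_bot]
    have := Ideal.comap_isPrime (algebraMap (A ⧸ p) R') P
    let Q := (P.comap (algebraMap (A ⧸ p) R')).comap π
    have hQp : p < Q := lt_of_le_of_ne (fun a ha => by
        show π a ∈ P.comap (algebraMap (A ⧸ p) R')
        rw [Ideal.Quotient.eq_zero_iff_mem.2 ha]; exact Submodule.zero_mem _) fun e => hPne <| by
      rw [← Ideal.map_comap_of_surjective π hπ (P.comap _)]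
      show Q.map π = ⊥
      rw [← e, Ideal.map_quotient_self]
    refine hmax Q ⟨Ideal.comap_isPrime π _, hp₀.trans hQp.le, ?_, fun h => hgP h⟩ hQp
    exact (Ideal.comap_mono hPm).trans (hcomap m hpm).le
  have hqne : q.map π ≠ ⊥ := fun e => hqp <| le_antisymm (fun a ha => by
    have : π a ∈ (⊥ : Ideal (A ⧸ p)) := e ▸ Ideal.mem_map_of_mem π ha
    exact Ideal.Quotient.eq_zero_iff_mem.1 (Ideal.mem_bot.1 this)) hpq
  have hdisj : Disjoint ((m.map π).primeCompl : Set (A ⧸ p)) (q.map π : Set (A ⧸ p)) :=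
    Set.disjoint_left.2 fun x hx hxq => hx (Ideal.map_mono hqm hxq)
  have hP := IsLocalization.isPrime_of_isPrime_disjoint (m.map π).primeCompl R' (q.map π) ‹_› hdisj
  have hback := IsLocalization.comap_map_of_isPrime_disjoint (m.map π).primeCompl R' ‹(q.map π).IsPrime› hdisj
  have hmaxq := GrothLib.ArtinTate.isMaximal_of_isField_away hg' hF
    (P := (q.map π).map (algebraMap (A ⧸ p) R'))
    fun e => hqne ((Ideal.map_eq_bot_iff_of_injective hinj).1 e)
  have : q.map π = m.map π := by
    rw [← IsLocalization.AtPrime.comap_maximalIdeal R' (m.map π), ← IsLocalRing.eq_maximalIdeal hmaxq]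
    exact hback.symm
  rw [← hcomap q hpq, this, hcomap m hpm]

/-- In an integral closure, a maximal ideal over a height one maximal ideal has height one. -/
theorem exists_maximal_over {R : Type u} [CommRing R] [IsDomain R] (m : Ideal R) [m.IsMaximal]
    (hmin : ∀ q : Ideal R, q.IsPrime → q ≤ m → q = ⊥ ∨ q = m)
    (B : Type u) [CommRing B] [IsDomain B] [Algebra R B] [Algebra.IsIntegral R B]
    (hinj : Function.Injective (algebraMap R B)) :
    ∃ c : Ideal B, c.IsMaximal ∧ c.comap (algebraMap R B) = m ∧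
      ∀ q : Ideal B, q.IsPrime → q ≤ c → q = ⊥ ∨ q = c := by
  obtain ⟨c, hc, hcm⟩ := Ideal.exists_ideal_over_maximal_of_isIntegral (S := B) m
    (by rw [(RingHom.injective_iff_ker_eq_bot _).1 hinj]; exact bot_le)
  refine ⟨c, hc, hcm, fun q hq hqc => ?_⟩
  rcases hmin _ (Ideal.comap_isPrime (algebraMap R B) q)
    ((Ideal.comap_mono hqc).trans hcm.le) with h | h
  · exact Or.inl (Ideal.eq_bot_of_comap_eq_bot h)
  · refine Or.inr (eq_of_le_of_not_lt hqc fun hlt => ?_)
    obtain ⟨x, hx, hxq⟩ := SetLike.exists_of_lt hlt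
    have := Ideal.comap_lt_comap_of_integral_mem_sdiff (R := R) hqc ⟨hx, hxq⟩
      (Algebra.IsIntegral.isIntegral x)
    exact absurd (hcm.trans h.symm) this.ne'

/-- Away from a suitable element, a height one maximal ideal is the only zero of a given element. -/
theorem exists_notMem_forall_eq {B : Type u} [CommRing B] [IsNoetherianRing B] (c : Ideal B)
    [c.IsMaximal] (hmin : ∀ q : Ideal B, q.IsPrime → q ≤ c → q = ⊥ ∨ q = c) {b : B} (hb : b ≠ 0) :
    ∃ h : B, h ∉ c ∧ ∀ q : Ideal B, q.IsPrime → b ∈ q → h ∉ q → q = c := by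
  classical
  have hfin := Ideal.finite_minimalPrimes_of_isNoetherianRing B (Ideal.span {b})
  have hex : ∀ P ∈ hfin.toFinset.erase c, ∃ a, a ∈ P ∧ a ∉ c := fun P hP => by
    obtain ⟨hPc, hP'⟩ := Finset.mem_erase.1 hP
    have hP'' := hfin.mem_toFinset.1 hP'
    refine SetLike.not_le_iff_exists.1 fun hle => ?_
    rcases hmin P hP''.1.1 hle with e | e
    · exact hb (Ideal.mem_bot.1 (e ▸ hP''.1.2 (Ideal.mem_span_singleton_self b)))
    · exact hPc e
  choose a haP hac using hex
  refine ⟨∏ P : ↥(hfin.toFinset.erase c), a P.1 P.2, fun h => ?_, fun q hq hbq hhq => ?_⟩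
  · obtain ⟨P, -, hP⟩ := (Ideal.IsMaximal.isPrime ‹_›).prod_mem_iff.1 h
    exact hac _ _ hP
  · obtain ⟨P, hP, hPq⟩ := Ideal.exists_minimalPrimes_le ((Ideal.span_singleton_le_iff_mem q).2 hbq)
    by_cases hPc : P = c
    · exact (‹c.IsMaximal›.eq_of_le hq.ne_top (hPc ▸ hPq)).symm
    · exact absurd (hq.prod_mem_iff.2 ⟨⟨P, Finset.mem_erase.2 ⟨hPc, hfin.mem_toFinset.2 hP⟩⟩,
        Finset.mem_univ _, hPq (haP _ _)⟩) hhq

/-- The localization at a height one maximal ideal has dimension one. -/
theorem ringKrullDim_atPrime {B : Type u} [CommRing B] [IsDomain B] [IsNoetherianRing B] (c : Ideal B) [c.IsPrime]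
    (hc : c ≠ ⊥) (hmin : ∀ q : Ideal B, q.IsPrime → q ≤ c → q = ⊥ ∨ q = c)
    (S : Type u) [CommRing S] [Algebra B S] [IsLocalization.AtPrime S c] : ringKrullDim S = 1 := by
  rw [IsLocalization.AtPrime.ringKrullDim_eq_height c S]
  have : (⊥ : Ideal B).IsPrime := Ideal.bot_prime
  have h1 : c.height ≤ 1 := Ideal.height_le_iff.2 fun q hq hlt => by
    rcases hmin q hq hlt.le with rfl | rfl
    · rw [Ideal.height_bot]; exact zero_lt_one
    · exact absurd hlt (lt_irrefl _)
  have h2 : (⊥ : Ideal B).height < c.height :=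
    Ideal.height_strict_mono_of_isPrime_of_isPrime (bot_lt_iff_ne_bot.2 hc)
  exact WithBot.coe_eq_coe.2 (le_antisymm h1 (Order.one_le_iff_pos.2 (lt_of_le_of_lt bot_le h2)))

/-- A point of a finite type algebra extends over some `B_b` inside the fraction field. -/
theorem exists_lift_away {A B T L : Type u} [CommRing A] [CommRing B] [IsDomain B] [CommRing T]
    [Field L] [Algebra A B] [Algebra A L] [Algebra B L] [IsScalarTower A B L] [IsFractionRing B L]
    [Algebra A T] [Algebra.FiniteType A T] (ψ : T →ₐ[A] L) :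
    ∃ b : B, b ≠ 0 ∧ ∀ (d : B), d ≠ 0 → b ∣ d →
      ∀ (S : Type u) [CommRing S] [Algebra B S] [IsLocalization.Away d S] [Algebra A S]
        [IsScalarTower A B S],
        ∃ (ι : S →ₐ[B] L) (θ : T →ₐ[A] S), ∀ t, ι (θ t) = ψ t := by
  classical
  obtain ⟨s, hs⟩ := ‹Algebra.FiniteType A T›.out
  choose x y hy hxy using fun t : T => IsFractionRing.div_surjective (A := B) (ψ t)
  refine ⟨∏ t ∈ s, y t, Finset.prod_ne_zero_iff.2 fun t _ => nonZeroDivisors.ne_zero (hy t),
    fun d hd hbd S _ _ _ _ _ => ?_⟩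
  have hu : IsUnit (algebraMap B L d) := IsUnit.mk0 _ fun e =>
    hd (IsFractionRing.injective B L (e.trans (map_zero _).symm))
  let ι : S →ₐ[B] L :=
    { IsLocalization.Away.lift d hu with commutes' := fun b => IsLocalization.Away.lift_eq d hu b }
  have hι : Function.Injective (ι.restrictScalars A) := by
    rw [injective_iff_map_eq_zero]
    intro z hz
    obtain ⟨⟨v, w⟩, hzv⟩ := IsLocalization.surj (Submonoid.powers d) z
    have h1 : algebraMap B L v = 0 := by
      rw [← ι.commutes, ← hzv, map_mul]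
      exact mul_eq_zero_of_left hz _
    have hv : v = 0 := IsFractionRing.injective B L (h1.trans (map_zero _).symm)
    dsimp only at hzv
    rw [hv, map_zero] at hzv
    exact (IsLocalization.map_units S w).mul_left_eq_zero.1 hzv
  have hrange : ψ.range ≤ (ι.restrictScalars A).range := by
    rw [← Algebra.map_top, ← hs, AlgHom.map_adjoin, Algebra.adjoin_le_iff]
    rintro _ ⟨t, ht, rfl⟩
    have hd' : IsUnit (algebraMap B S (y t)) :=
      isUnit_of_dvd_unit (map_dvd _ ((Finset.dvd_prod_of_mem _ ht).trans hbd))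
        (IsLocalization.Away.algebraMap_isUnit (S := S) d)
    refine ⟨algebraMap B S (x t) * ↑hd'.unit⁻¹, ?_⟩
    show ι _ = ψ t
    rw [map_mul, ι.commutes, ← hxy t, eq_div_iff fun e => nonZeroDivisors.ne_zero (hy t)
      (IsFractionRing.injective B L (e.trans (map_zero _).symm)), mul_assoc, ← ι.commutes (y t),
      ← map_mul, IsUnit.val_inv_mul, map_one, mul_one]
  refine ⟨ι, ((AlgEquiv.ofInjective _ hι).symm.toAlgHom.comp
    ((Subalgebra.inclusion hrange).comp ψ.rangeRestrict)), fun t => ?_⟩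
  exact congrArg Subtype.val ((AlgEquiv.ofInjective _ hι).apply_symm_apply
    (Subalgebra.inclusion hrange (ψ.rangeRestrict t)))

/-- The fibre of a finite type algebra over a prime in its image has a finite point. -/
theorem exists_finite_point {A T : Type u} [CommRing A] [CommRing T] [Algebra A T]
    [Algebra.FiniteType A T] (p : Ideal A) [p.IsPrime] (Q : Ideal T) [Q.IsPrime]
    (hQ : Q.comap (algebraMap A T) = p) :
    ∃ (L : Type u) (_ : Field L) (_ : Algebra (A ⧸ p) L) (_ : Algebra (FractionRing (A ⧸ p)) L)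
      (_ : IsScalarTower (A ⧸ p) (FractionRing (A ⧸ p)) L) (_ : Algebra A L)
      (_ : IsScalarTower A (A ⧸ p) L),
      FiniteDimensional (FractionRing (A ⧸ p)) L ∧ Nonempty (T →ₐ[A] L) := by
  let K := FractionRing (A ⧸ p)
  let F := TensorProduct A K T
  have : Nontrivial F := by
    let L₀ := FractionRing (T ⧸ Q)
    let j : (A ⧸ p) →+* L₀ :=
      (algebraMap (T ⧸ Q) L₀).comp (Ideal.quotientMap Q (algebraMap A T) hQ.ge)
    have hj : Function.Injective j :=
      (IsFractionRing.injective (T ⧸ Q) L₀).comp (Ideal.quotientMap_injective' (H := hQ.ge) hQ.le)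
    let k : K →ₐ[A] L₀ :=
      { IsFractionRing.lift hj with
        commutes' := fun a => by
          show IsFractionRing.lift hj _ = _
          rw [IsScalarTower.algebraMap_apply A (A ⧸ p) K, IsFractionRing.lift_algebraMap,
            IsScalarTower.algebraMap_apply A T L₀, IsScalarTower.algebraMap_apply T (T ⧸ Q) L₀]
          rfl }
    exact (Algebra.TensorProduct.lift k (IsScalarTower.toAlgHom A T L₀) fun _ _ => Commute.all _ _
      ).toRingHom.domain_nontrivial
  obtain ⟨M, hM⟩ := Ideal.exists_maximal F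
  let L := F ⧸ M
  let _ : Field L := Ideal.Quotient.field M
  have h1 : IsScalarTower (A ⧸ p) K L := inferInstance
  have h2 : IsScalarTower A (A ⧸ p) L := inferInstance
  have : Algebra.FiniteType K L := Algebra.FiniteType.of_surjective (Ideal.Quotient.mkₐ K M) Ideal.Quotient.mk_surjective
  exact ⟨L, inferInstance, inferInstance, inferInstance, h1, inferInstance, h2,
    finite_of_finite_type_of_isJacobsonRing K L,
    ⟨(Ideal.Quotient.mkₐ A M).comp Algebra.TensorProduct.includeRight⟩⟩

end GrothLib.NagataCurve
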